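import Cfsg.Agent.H340.RV.Rank4Sp
import Cfsg.Agent.H556.OmGood
import Cfsg.Agent.H556.OmMax

/-!
# Elementary abelian subgroups of order 16 in orthogonal groups (helper340)

`e16_omega` : odd characteristic, dimension at least 7. `e16_o8_2` : `POmega_8^+(2)`.
-/

set_option autoImplicit false

namespace Cfsg.Agent.H340.RV.Rank4

open Subgroup Matrix
open scoped commutatorElement

section Odd

open Module QuadraticMap Cfsg.Agent.H556.Om Cfsg.Agent.H170.HL Cfsg.Agent.H170.HL.OmRow Cfsg.Agent.H167.OP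

variable {F : Type*} [Field F] {ι : Type} [Fintype ι] [DecidableEq ι] {Q : QuadraticForm F (ι → F)}

/-- the elements acting as the same scalar on two vectors -/
def SameSc (Q : QuadraticForm F (ι → F)) (u v : ι → F) : Subgroup (Cfsg.Omega F (⇑Q)) where
  carrier := {x | ∃ c : F, c ≠ 0 ∧ rep (inc (⇑Q)) x u = c • u ∧ rep (inc (⇑Q)) x v = c • v}
  one_mem' := ⟨1, one_ne_zero, by rw [map_one, one_smul]; rfl, by rw [map_one, one_smul]; rfl⟩
  mul_mem' := by
    rintro x y ⟨c, hc, hcu, hcv⟩ ⟨d, hd, hdu, hdv⟩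
    refine ⟨d * c, mul_ne_zero hd hc, ?_, ?_⟩
    · rw [map_mul, Module.End.mul_apply, hdu, map_smul, hcu, smul_smul]
    · rw [map_mul, Module.End.mul_apply, hdv, map_smul, hcv, smul_smul]
  inv_mem' := by
    rintro x ⟨c, hc, hcu, hcv⟩
    have h : ∀ w : ι → F, rep (inc (⇑Q)) x w = c • w → rep (inc (⇑Q)) x⁻¹ w = c⁻¹ • w := by
      intro w hw
      have h1 : rep (inc (⇑Q)) x⁻¹ (rep (inc (⇑Q)) x w) = w := by
        rw [← Module.End.mul_apply, ← map_mul, inv_mul_cancel, map_one, Module.End.one_apply]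
      rw [hw, map_smul] at h1
      rw [← h1, smul_smul, inv_mul_cancel₀ hc, one_smul, h1]
    exact ⟨c⁻¹, inv_ne_zero hc, h u hcu, h v hcv⟩

theorem e16_omega [Finite F] (hQ : GoodQ Q) (h2 : (2 : F) ≠ 0) (hN : 7 ≤ Fintype.card ι) :
    HasE16 (Cfsg.POmega F (⇑Q)) := by
  have hF0 : Frame (polarBilin Q) (fun i : Fin 0 => (i.elim0 : ι → F)) := ⟨fun i => i.elim0, fun i => i.elim0⟩
  obtain ⟨e, he, -⟩ := exists_frames hQ.nd h2 hF0 6 (by rw [Fintype.card_fin]; omega)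
  have he0 : ∀ j, e j ≠ 0 := fun j h => by
    have h1 := he.self j
    rw [h] at h1
    simp at h1
    exact h2 h1.symm
  have hex : ∀ j : Fin 6, j ≠ 0 → ∃ g : Cfsg.Omega F (⇑Q),
      rep (inc (⇑Q)) g = mono (polarBilin Q) e (sg F 0 j) id := fun j hj => exists_sg hQ h2 he hj.symm
  obtain ⟨t1, ht1⟩ := hex 1 (by decide)
  obtain ⟨t2, ht2⟩ := hex 2 (by decide)
  obtain ⟨t3, ht3⟩ := hex 3 (by decide)
  obtain ⟨t4, ht4⟩ := hex 4 (by decide)
  have hmul : ∀ (i j : Fin 6) (x y : Cfsg.Omega F (⇑Q)), rep (inc (⇑Q)) x = mono (polarBilin Q) e (sg F 0 i) id →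
      rep (inc (⇑Q)) y = mono (polarBilin Q) e (sg F 0 j) id →
      rep (inc (⇑Q)) (x * y) = mono (polarBilin Q) e (fun k => sg F 0 j k * sg F 0 i k) id := by
    intro i j x y hx hy
    rw [map_mul, hx, hy, mono_mul he h2]
    rfl
  have hcomm : ∀ (i j : Fin 6) (x y : Cfsg.Omega F (⇑Q)), rep (inc (⇑Q)) x = mono (polarBilin Q) e (sg F 0 i) id →
      rep (inc (⇑Q)) y = mono (polarBilin Q) e (sg F 0 j) id → x * y = y * x := by
    intro i j x y hx hy
    apply rep_inj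
    rw [hmul i j x y hx hy, hmul j i y x hy hx]
    congr 1
    ext k
    exact mul_comm _ _
  have hsq : ∀ (i : Fin 6) (x : Cfsg.Omega F (⇑Q)), rep (inc (⇑Q)) x = mono (polarBilin Q) e (sg F 0 i) id →
      x * x = 1 := by
    intro i x hx
    apply rep_inj
    rw [hmul i i x x hx hx, map_one]
    refine mono_one he h2 (fun k => ?_) fun _ => rfl
    show sg F 0 i k * sg F 0 i k = 1
    rw [sg]
    split_ifs <;> ring
  have hval : ∀ (i : Fin 6) (x : Cfsg.Omega F (⇑Q)), rep (inc (⇑Q)) x = mono (polarBilin Q) e (sg F 0 i) id →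
      ∀ k, rep (inc (⇑Q)) x (e k) = sg F 0 i k • e k := by
    intro i x hx k
    rw [hx, mono_e he h2]
    rfl
  let m : Cfsg.Omega F (⇑Q) →* Cfsg.POmega F (⇑Q) := QuotientGroup.mk' _
  let K : Fin 6 → Fin 6 → Subgroup (Cfsg.POmega F (⇑Q)) := fun j k => (SameSc Q (e j) (e k)).map m
  have hcen : ∀ (z : Cfsg.Omega F (⇑Q)), z ∈ center (Cfsg.Omega F (⇑Q)) → ∀ j k, z ∈ SameSc Q (e j) (e k) := by
    intro z hz j k
    have h1 := (Cfsg.Agent.LieClassical.OmegaCenter.mem_center_omega_iff Q hQ.nd hQ.card hQ.sing z).mp hz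
    have h1' : inc (⇑Q) z = 1 ∨ inc (⇑Q) z = -1 := h1
    rcases h1' with h | h
    · have : z = 1 := inc_injective (by rw [h, map_one])
      rw [this]
      exact one_mem _
    · have hv : ∀ v, rep (inc (⇑Q)) z v = (-1 : F) • v := by
        intro v
        have h3 : rep (inc (⇑Q)) z v = inc (⇑Q) z *ᵥ v := rfl
        rw [h3, h, Matrix.neg_mulVec, Matrix.one_mulVec, neg_one_smul]
      exact ⟨-1, neg_ne_zero.2 one_ne_zero, hv _, hv _⟩
  have hK : ∀ (x : Cfsg.Omega F (⇑Q)) (j k), m x ∈ K j k → x ∈ SameSc Q (e j) (e k) := by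
    rintro x j k ⟨y, hy, hyx⟩
    have h1 : y⁻¹ * x ∈ center (Cfsg.Omega F (⇑Q)) := QuotientGroup.eq.1 hyx
    have h2 : x = y * (y⁻¹ * x) := by group
    rw [h2]
    exact mul_mem hy (hcen _ h1 j k)
  have hin : ∀ (i : Fin 6) (x : Cfsg.Omega F (⇑Q)), rep (inc (⇑Q)) x = mono (polarBilin Q) e (sg F 0 i) id →
      ∀ j k, j ≠ 0 → k ≠ 0 → j ≠ i → k ≠ i → m x ∈ K j k := by
    intro i x hx j k hj hk hji hki
    refine mem_map_of_mem _ ⟨1, one_ne_zero, ?_, ?_⟩
    · rw [hval i x hx, sg, if_neg (by tauto)]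
    · rw [hval i x hx, sg, if_neg (by tauto)]
  have hout : ∀ (i : Fin 6) (x : Cfsg.Omega F (⇑Q)), rep (inc (⇑Q)) x = mono (polarBilin Q) e (sg F 0 i) id →
      ∀ k, k ≠ 0 → k ≠ i → m x ∉ K i k := by
    intro i x hx k hk hki hmem
    obtain ⟨c, hc, h3, h4⟩ := hK x i k hmem
    rw [hval i x hx, sg, if_pos (Or.inr rfl)] at h3
    rw [hval i x hx, sg, if_neg (by tauto)] at h4
    have h5 : c = -1 := by
      have h6 : (c - (-1)) • e i = 0 := by rw [sub_smul, ← h3, sub_self]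
      exact sub_eq_zero.1 ((smul_eq_zero.1 h6).resolve_right (he0 i))
    have h7 : c = 1 := by
      have h6 : (c - 1) • e k = 0 := by rw [sub_smul, ← h4, sub_self]
      exact sub_eq_zero.1 ((smul_eq_zero.1 h6).resolve_right (he0 k))
    rw [h5] at h7
    exact h2 (by linear_combination -h7)
  have hc' : ∀ x y : Cfsg.Omega F (⇑Q), x * y = y * x → m x * m y = m y * m x := fun x y h => by
    rw [← map_mul, h, map_mul]
  have hs' : ∀ x : Cfsg.Omega F (⇑Q), x * x = 1 → m x * m x = 1 := fun x h => by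
    rw [← map_mul, h, map_one]
  refine of_chain (a := m t1) (b := m t2) (c := m t3) (d := m t4) (K1 := K 2 3) (K2 := K 3 4) (K3 := K 4 5)
    (hs' _ (hsq 1 _ ht1)) (hs' _ (hsq 2 _ ht2)) (hs' _ (hsq 3 _ ht3)) (hs' _ (hsq 4 _ ht4))
    (hc' _ _ (hcomm 1 2 _ _ ht1 ht2)) (hc' _ _ (hcomm 1 3 _ _ ht1 ht3)) (hc' _ _ (hcomm 1 4 _ _ ht1 ht4))
    (hc' _ _ (hcomm 2 3 _ _ ht2 ht3)) (hc' _ _ (hcomm 2 4 _ _ ht2 ht4)) (hc' _ _ (hcomm 3 4 _ _ ht3 ht4))
    ?_ (hin 1 _ ht1 2 3 (by decide) (by decide) (by decide) (by decide)) (hout 2 _ ht2 3 (by decide) (by decide))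
    (hin 1 _ ht1 3 4 (by decide) (by decide) (by decide) (by decide))
    (hin 2 _ ht2 3 4 (by decide) (by decide) (by decide) (by decide)) (hout 3 _ ht3 4 (by decide) (by decide))
    (hin 1 _ ht1 4 5 (by decide) (by decide) (by decide) (by decide))
    (hin 2 _ ht2 4 5 (by decide) (by decide) (by decide) (by decide))
    (hin 3 _ ht3 4 5 (by decide) (by decide) (by decide) (by decide)) (hout 4 _ ht4 5 (by decide) (by decide))
  intro h
  have h8 := hout 1 _ ht1 2 (by decide) (by decide)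
  rw [h] at h8
  exact h8 (one_mem _)

end Odd

section Even

variable {F : Type*} [Field F]

/-- isometries from matrices -/
def mkO (M N : Matrix (Fin 4 ⊕ Fin 4) (Fin 4 ⊕ Fin 4) F) (h1 : M * N = 1) (h2 : N * M = 1)
    (hp : ∀ u, Cfsg.quadFormPlus 4 F (M *ᵥ u) = Cfsg.quadFormPlus 4 F u) :
    Cfsg.isometryGroup F (Cfsg.quadFormPlus 4 F) :=
  ⟨⟨M, N, h1, h2⟩, fun u _ => hp u⟩

/-- the matrix of an isometry -/
def mat (x : Cfsg.isometryGroup F (Cfsg.quadFormPlus 4 F)) : Matrix (Fin 4 ⊕ Fin 4) (Fin 4 ⊕ Fin 4) F :=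
  ((x : Matrix.GeneralLinearGroup (Fin 4 ⊕ Fin 4) F) : Matrix (Fin 4 ⊕ Fin 4) (Fin 4 ⊕ Fin 4) F)

theorem mat_inj {x y : Cfsg.isometryGroup F (Cfsg.quadFormPlus 4 F)} (h : mat x = mat y) : x = y :=
  Subtype.ext (Units.ext h)

theorem mat_mul (x y : Cfsg.isometryGroup F (Cfsg.quadFormPlus 4 F)) : mat (x * y) = mat x * mat y := rfl

def BM (v : Fin 4 → F) : Matrix (Fin 4) (Fin 4) F :=
  !![0, v 0, 0, v 2; -v 0, 0, v 1, v 3; 0, -v 1, 0, 0; -v 2, -v 3, 0, 0]

def AM (v : Fin 4 → F) : Matrix (Fin 4) (Fin 4) F :=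
  !![0, -v 0, -v 1, -v 2; v 0, 0, v 0 - v 1, v 2 - v 3; v 1, v 1 - v 0, 0, v 3; v 2, v 3 - v 2, -v 3, 0]

def GM : Matrix (Fin 4) (Fin 4) F := !![0, 0, 1, 0; 1, 0, 0, 0; 0, 1, 0, 0; 0, 0, 0, 1]

theorem GM_mul : (GM : Matrix (Fin 4) (Fin 4) F) * GMᵀ = 1 := by
  ext i j
  fin_cases i <;> fin_cases j <;> simp [GM, Matrix.mul_apply, Fin.sum_univ_four]

theorem GM_mul' : (GM : Matrix (Fin 4) (Fin 4) F)ᵀ * GM = 1 := by
  ext i j
  fin_cases i <;> fin_cases j <;> simp [GM, Matrix.mul_apply, Fin.sum_univ_four]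

theorem GM_BM (v : Fin 4 → F) : (BM v + AM v) * GM = GM * BM v := by
  ext i j
  fin_cases i <;> fin_cases j <;> simp [GM, BM, AM, Matrix.mul_apply, Fin.sum_univ_four] <;> abel

theorem AM_add (v w : Fin 4 → F) : AM (v + w) = AM v + AM w := by
  ext i j
  fin_cases i <;> fin_cases j <;> simp [AM] <;> ring

theorem AM_zero : AM (0 : Fin 4 → F) = 0 := by
  ext i j
  fin_cases i <;> fin_cases j <;> simp [AM]

/-- alternating -/
def Alt4 (B : Matrix (Fin 4) (Fin 4) F) : Prop := ∀ y : Fin 4 → F, ∑ i, (B *ᵥ y) i * y i = 0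

theorem alt_BM (v : Fin 4 → F) : Alt4 (BM v) := by
  intro y
  simp [BM, Fin.sum_univ_four, Matrix.mulVec, dotProduct]
  ring

theorem alt_AM (v : Fin 4 → F) : Alt4 (AM v) := by
  intro y
  simp [AM, Fin.sum_univ_four, Matrix.mulVec, dotProduct]
  ring

/-- unipotent elements -/
def uu (B : Matrix (Fin 4) (Fin 4) F) (hB : Alt4 B) : Cfsg.isometryGroup F (Cfsg.quadFormPlus 4 F) :=
  mkO (fromBlocks 1 B 0 1) (fromBlocks 1 (-B) 0 1)
    (by rw [fromBlocks_multiply, ← fromBlocks_one]; simp)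
    (by rw [fromBlocks_multiply, ← fromBlocks_one]; simp)
    (by
      intro v
      rw [fromBlocks_mulVec]
      simp only [Cfsg.quadFormPlus, Sum.elim_inl, Sum.elim_inr, Matrix.one_mulVec, Matrix.zero_mulVec, zero_add,
        Pi.add_apply, add_mul, Finset.sum_add_distrib]
      rw [hB (v ∘ Sum.inr), add_zero]
      rfl)

def hh : Cfsg.isometryGroup F (Cfsg.quadFormPlus 4 F) :=
  mkO (fromBlocks GM 0 0 GM) (fromBlocks GMᵀ 0 0 GMᵀ)
    (by rw [fromBlocks_multiply, ← fromBlocks_one]; simp [GM_mul])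
    (by rw [fromBlocks_multiply, ← fromBlocks_one]; simp [GM_mul'])
    (by
      intro v
      rw [fromBlocks_mulVec]
      simp only [Cfsg.quadFormPlus, Sum.elim_inl, Sum.elim_inr, Matrix.zero_mulVec, zero_add, add_zero]
      simp [GM, Fin.sum_univ_four, Matrix.mulVec, dotProduct]
      ring)

def ww : Cfsg.isometryGroup F (Cfsg.quadFormPlus 4 F) :=
  mkO (fromBlocks 0 1 1 0) (fromBlocks 0 1 1 0)
    (by rw [fromBlocks_multiply, ← fromBlocks_one]; simp)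
    (by rw [fromBlocks_multiply, ← fromBlocks_one]; simp)
    (by
      intro v
      rw [fromBlocks_mulVec]
      simp only [Cfsg.quadFormPlus, Sum.elim_inl, Sum.elim_inr, Matrix.one_mulVec, Matrix.zero_mulVec, zero_add,
        add_zero]
      exact Finset.sum_congr rfl fun i _ => mul_comm _ _)

theorem uu_mem (v : Fin 4 → F) : uu (AM v) (alt_AM v) ∈ Cfsg.Omega F (Cfsg.quadFormPlus 4 F) := by
  have h1 : uu (AM v) (alt_AM v) = ⁅(hh : Cfsg.isometryGroup F (Cfsg.quadFormPlus 4 F)), uu (BM v) (alt_BM v)⁆ := by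
    rw [commutatorElement_def, eq_mul_inv_iff_mul_eq, eq_mul_inv_iff_mul_eq]
    apply mat_inj
    rw [mat_mul, mat_mul, mat_mul]
    show fromBlocks 1 (AM v) 0 1 * fromBlocks 1 (BM v) 0 1 * fromBlocks GM 0 0 GM =
      fromBlocks GM 0 0 GM * fromBlocks 1 (BM v) 0 1
    rw [fromBlocks_multiply, fromBlocks_multiply, fromBlocks_multiply]
    simp [GM_BM]
  rw [h1]
  exact Subgroup.commutator_mem_commutator (mem_top _) (mem_top _)

theorem ul_mem (v : Fin 4 → F) : ww * uu (AM v) (alt_AM v) * ww⁻¹ ∈ Cfsg.Omega F (Cfsg.quadFormPlus 4 F) :=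
  (inferInstance : (commutator (Cfsg.isometryGroup F (Cfsg.quadFormPlus 4 F))).Normal).conj_mem _ (uu_mem v) _

theorem mat_ul (v : Fin 4 → F) : mat (ww * uu (AM v) (alt_AM v) * ww⁻¹) = fromBlocks 1 0 (AM v) 1 := by
  show (fromBlocks 0 1 1 0 * fromBlocks 1 (AM v) 0 1 * fromBlocks 0 1 1 0 :
    Matrix (Fin 4 ⊕ Fin 4) (Fin 4 ⊕ Fin 4) F) = _
  rw [fromBlocks_multiply, fromBlocks_multiply]
  simp

theorem AM_inj {v : Fin 4 → F} (h : AM v * AM (![1, 0, 0, 1] : Fin 4 → F) = 0) : v = 0 := by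
  have h5 : ∀ i j, (AM v * AM (![1, 0, 0, 1] : Fin 4 → F)) i j = 0 := fun i j => by rw [h]; rfl
  have h00 := h5 0 0
  have h02 := h5 0 2
  have h03 := h5 0 3
  have h22 := h5 2 2
  have h20 := h5 2 0
  simp [AM, Matrix.mul_apply, Fin.sum_univ_four] at h00 h02 h03 h22 h20
  have h0 : v 0 = 0 := h00
  have h2 : v 2 = 0 := by linear_combination h02 + h0
  have h1 : v 1 = 0 := by linear_combination h0 - h03
  have h3 : v 3 = 0 := by linear_combination h1 - h0 - h22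
  ext i
  fin_cases i
  · exact h0
  · exact h1
  · exact h2
  · exact h3

theorem e16_o8 [Finite F] (hF : Nat.card F = 2) : HasE16 (Cfsg.POmega F (Cfsg.quadFormPlus 4 F)) := by
  let φ : Multiplicative (Fin 4 → F) →* Cfsg.Omega F (Cfsg.quadFormPlus 4 F) :=
    { toFun := fun v => ⟨uu (AM (Multiplicative.toAdd v)) (alt_AM _), uu_mem _⟩
      map_one' := by
        apply Subtype.ext
        apply mat_inj
        show fromBlocks 1 (AM 0) 0 1 = (1 : Matrix (Fin 4 ⊕ Fin 4) (Fin 4 ⊕ Fin 4) F)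
        rw [AM_zero, fromBlocks_one]
      map_mul' := by
        intro v w
        apply Subtype.ext
        apply mat_inj
        show fromBlocks 1 (AM (Multiplicative.toAdd v + Multiplicative.toAdd w)) 0 1 =
          (fromBlocks 1 (AM (Multiplicative.toAdd v)) 0 1 * fromBlocks 1 (AM (Multiplicative.toAdd w)) 0 1 :
            Matrix (Fin 4 ⊕ Fin 4) (Fin 4 ⊕ Fin 4) F)
        rw [fromBlocks_multiply, AM_add]
        simp [add_comm] }
  refine of_hom (card_four hF) (exp_two hF) φ ?_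
  intro a ha
  refine ⟨⟨_, ul_mem ![1, 0, 0, 1]⟩, fun h => ha (AM_inj ?_)⟩
  have h3 : mat (uu (AM a) (alt_AM a) * (ww * uu (AM ![1, 0, 0, 1]) (alt_AM _) * ww⁻¹)) =
      mat ((ww * uu (AM ![1, 0, 0, 1]) (alt_AM _) * ww⁻¹) * uu (AM a) (alt_AM a)) :=
    congrArg mat (congrArg Subtype.val h)
  have hml := mat_ul (![1, 0, 0, 1] : Fin 4 → F)
  generalize ww * uu (AM (![1, 0, 0, 1] : Fin 4 → F)) (alt_AM _) * ww⁻¹ = L at h3 hml
  rw [mat_mul (uu (AM a) (alt_AM a)) L, mat_mul L, hml] at h3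
  have h4 : fromBlocks 1 (AM a) 0 1 * fromBlocks 1 0 (AM ![1, 0, 0, 1]) 1 =
    (fromBlocks 1 0 (AM ![1, 0, 0, 1]) 1 * fromBlocks 1 (AM a) 0 1 : Matrix (Fin 4 ⊕ Fin 4) (Fin 4 ⊕ Fin 4) F) := h3
  rw [fromBlocks_multiply, fromBlocks_multiply, fromBlocks_inj] at h4
  simpa using h4.1

end Even

end Cfsg.Agent.H340.RV.Rank4
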