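import Cfsg.Agent.H340.RV.Rank4

/-!
# Elementary abelian subgroups of order 16 in `PSU_4(q)`, `q` odd (helper340)
-/

set_option autoImplicit false

namespace Cfsg.Agent.H340.RV.Rank4

open Subgroup Matrix

variable {F : Type*} [Field F] {q : ℕ}

/-- matrices in `SU` -/
def mkSU (M : Matrix (Fin 4) (Fin 4) F) (hd : M.det = 1)
    (hp : ∀ u v, Cfsg.hermForm 4 F q (M *ᵥ u) (M *ᵥ v) = Cfsg.hermForm 4 F q u v) : Cfsg.SU 4 F q :=
  ⟨⟨M, hd⟩, hp⟩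

theorem mk_ext {x y : Cfsg.SU 4 F q}
    (h : ((x : Matrix.SpecialLinearGroup (Fin 4) F) : Matrix (Fin 4) (Fin 4) F) =
      ((y : Matrix.SpecialLinearGroup (Fin 4) F) : Matrix (Fin 4) (Fin 4) F)) : x = y :=
  Subtype.ext (Subtype.ext h)

def X1 : Matrix (Fin 4) (Fin 4) F := !![0, 0, 1, 0; 0, 0, 0, 1; 1, 0, 0, 0; 0, 1, 0, 0]
def Z1 : Matrix (Fin 4) (Fin 4) F := !![1, 0, 0, 0; 0, 1, 0, 0; 0, 0, -1, 0; 0, 0, 0, -1]
def X2 : Matrix (Fin 4) (Fin 4) F := !![0, 1, 0, 0; 1, 0, 0, 0; 0, 0, 0, 1; 0, 0, 1, 0]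
def Z2 : Matrix (Fin 4) (Fin 4) F := !![1, 0, 0, 0; 0, -1, 0, 0; 0, 0, 1, 0; 0, 0, 0, -1]

theorem det_X1 : (X1 : Matrix (Fin 4) (Fin 4) F).det = 1 := by
  have h : Fin.succAbove (2 : Fin 4) (2 : Fin 3) = 3 := rfl
  simp [X1, Matrix.det_succ_row_zero, Fin.sum_univ_succ, h]

theorem det_Z1 : (Z1 : Matrix (Fin 4) (Fin 4) F).det = 1 := by
  simp [Z1, Matrix.det_succ_row_zero, Fin.sum_univ_succ]

theorem det_X2 : (X2 : Matrix (Fin 4) (Fin 4) F).det = 1 := by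
  have h : Fin.succAbove (1 : Fin 4) (2 : Fin 3) = 3 := rfl
  simp [X2, Matrix.det_succ_row_zero, Fin.sum_univ_succ, h]

theorem det_Z2 : (Z2 : Matrix (Fin 4) (Fin 4) F).det = 1 := by
  simp [Z2, Matrix.det_succ_row_zero, Fin.sum_univ_succ]

theorem det_neg1 : (-1 : Matrix (Fin 4) (Fin 4) F).det = 1 := by
  rw [Matrix.det_neg, Matrix.det_one, Fintype.card_fin]
  norm_num

theorem herm_X1 (u v : Fin 4 → F) : Cfsg.hermForm 4 F q (X1 *ᵥ u) (X1 *ᵥ v) = Cfsg.hermForm 4 F q u v := by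
  simp [X1, Cfsg.hermForm, Fin.sum_univ_four, Matrix.mulVec, dotProduct]
  ring

theorem herm_X2 (u v : Fin 4 → F) : Cfsg.hermForm 4 F q (X2 *ᵥ u) (X2 *ᵥ v) = Cfsg.hermForm 4 F q u v := by
  simp [X2, Cfsg.hermForm, Fin.sum_univ_four, Matrix.mulVec, dotProduct]
  ring

theorem herm_Z1 (hq : Odd q) (u v : Fin 4 → F) :
    Cfsg.hermForm 4 F q (Z1 *ᵥ u) (Z1 *ᵥ v) = Cfsg.hermForm 4 F q u v := by
  simp [Z1, Cfsg.hermForm, Fin.sum_univ_four, Matrix.mulVec, dotProduct, hq.neg_pow]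

theorem herm_Z2 (hq : Odd q) (u v : Fin 4 → F) :
    Cfsg.hermForm 4 F q (Z2 *ᵥ u) (Z2 *ᵥ v) = Cfsg.hermForm 4 F q u v := by
  simp [Z2, Cfsg.hermForm, Fin.sum_univ_four, Matrix.mulVec, dotProduct, hq.neg_pow]

theorem herm_neg1 (hq : Odd q) (u v : Fin 4 → F) :
    Cfsg.hermForm 4 F q ((-1 : Matrix (Fin 4) (Fin 4) F) *ᵥ u) ((-1 : Matrix (Fin 4) (Fin 4) F) *ᵥ v) =
      Cfsg.hermForm 4 F q u v := by
  rw [Matrix.neg_mulVec, Matrix.one_mulVec, Matrix.neg_mulVec, Matrix.one_mulVec]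
  simp [Cfsg.hermForm, hq.neg_pow]

theorem e16_psu4 (hq : Odd q) (h2 : (2 : F) ≠ 0) : HasE16 (Cfsg.PSU 4 F q) := by
  let a : Cfsg.SU 4 F q := mkSU X1 det_X1 herm_X1
  let b : Cfsg.SU 4 F q := mkSU Z1 det_Z1 (herm_Z1 hq)
  let c : Cfsg.SU 4 F q := mkSU X2 det_X2 herm_X2
  let d : Cfsg.SU 4 F q := mkSU Z2 det_Z2 (herm_Z2 hq)
  let ε : Cfsg.SU 4 F q := mkSU (-1) det_neg1 (herm_neg1 hq)
  have hmul : ∀ x y : Cfsg.SU 4 F q, (((x * y : Cfsg.SU 4 F q) : Matrix.SpecialLinearGroup (Fin 4) F) :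
      Matrix (Fin 4) (Fin 4) F) = ((x : Matrix.SpecialLinearGroup (Fin 4) F) : Matrix (Fin 4) (Fin 4) F) *
        ((y : Matrix.SpecialLinearGroup (Fin 4) F) : Matrix (Fin 4) (Fin 4) F) := fun x y => rfl
  have hone : (((1 : Cfsg.SU 4 F q) : Matrix.SpecialLinearGroup (Fin 4) F) : Matrix (Fin 4) (Fin 4) F) = 1 := rfl
  have hεm : ε ∈ center (Cfsg.SU 4 F q) := by
    rw [mem_center_iff]
    intro g
    apply mk_ext
    rw [hmul, hmul]
    show _ * (-1) = (-1) * _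
    rw [mul_neg, neg_mul, mul_one, one_mul]
  have hsq : ∀ x : Cfsg.SU 4 F q, x * x = 1 → x * x ∈ center (Cfsg.SU 4 F q) := fun x hx => by
    rw [hx]
    exact one_mem _
  refine of_extra (a := a) (b := b) (c := c) (d := d) (ε := ε) ?_ hεm (hsq a ?_) (hsq b ?_) (hsq c ?_) (hsq d ?_)
    ?_ ?_ ?_ ?_ ?_ ?_
  · intro h
    have h6 : (-1 : Matrix (Fin 4) (Fin 4) F) 0 0 = 1 := by
      have h7 : (-1 : Matrix (Fin 4) (Fin 4) F) = 1 :=
        congrArg (fun x : Cfsg.SU 4 F q => ((x : Matrix.SpecialLinearGroup (Fin 4) F) : Matrix (Fin 4) (Fin 4) F)) h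
      rw [h7, Matrix.one_apply_eq]
    rw [Matrix.neg_apply, Matrix.one_apply_eq] at h6
    exact h2 (by linear_combination -h6)
  all_goals
    apply mk_ext
  · show (X1 * X1 : Matrix (Fin 4) (Fin 4) F) = 1
    ext i j
    fin_cases i <;> fin_cases j <;> simp [X1, Matrix.mul_apply, Fin.sum_univ_four]
  · show (Z1 * Z1 : Matrix (Fin 4) (Fin 4) F) = 1
    ext i j
    fin_cases i <;> fin_cases j <;> simp [Z1, Matrix.mul_apply, Fin.sum_univ_four]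
  · show (X2 * X2 : Matrix (Fin 4) (Fin 4) F) = 1
    ext i j
    fin_cases i <;> fin_cases j <;> simp [X2, Matrix.mul_apply, Fin.sum_univ_four]
  · show (Z2 * Z2 : Matrix (Fin 4) (Fin 4) F) = 1
    ext i j
    fin_cases i <;> fin_cases j <;> simp [Z2, Matrix.mul_apply, Fin.sum_univ_four]
  · show (X1 * Z1 : Matrix (Fin 4) (Fin 4) F) = -1 * (Z1 * X1)
    rw [neg_one_mul]
    ext i j
    fin_cases i <;> fin_cases j <;> simp [X1, Z1, Matrix.mul_apply, Fin.sum_univ_four]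
  · show (X2 * Z2 : Matrix (Fin 4) (Fin 4) F) = -1 * (Z2 * X2)
    rw [neg_one_mul]
    ext i j
    fin_cases i <;> fin_cases j <;> simp [X2, Z2, Matrix.mul_apply, Fin.sum_univ_four]
  · show (X1 * X2 : Matrix (Fin 4) (Fin 4) F) = X2 * X1
    ext i j
    fin_cases i <;> fin_cases j <;> simp [X1, X2, Matrix.mul_apply, Fin.sum_univ_four]
  · show (X1 * Z2 : Matrix (Fin 4) (Fin 4) F) = Z2 * X1
    ext i j
    fin_cases i <;> fin_cases j <;> simp [X1, Z2, Matrix.mul_apply, Fin.sum_univ_four]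
  · show (Z1 * X2 : Matrix (Fin 4) (Fin 4) F) = X2 * Z1
    ext i j
    fin_cases i <;> fin_cases j <;> simp [Z1, X2, Matrix.mul_apply, Fin.sum_univ_four]
  · show (Z1 * Z2 : Matrix (Fin 4) (Fin 4) F) = Z2 * Z1
    ext i j
    fin_cases i <;> fin_cases j <;> simp [Z1, Z2, Matrix.mul_apply, Fin.sum_univ_four]

end Cfsg.Agent.H340.RV.Rank4
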