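import Cfsg.Agent.H340.RV.Rank4Sp
import Cfsg.Agent.H340.RV.Rank4SU
import Cfsg.Agent.H340.RV.Rank4O
import Cfsg.Agent.H556.FHallOmega

/-!
# Elementary abelian subgroups of order 16, by names (helper340)
-/

set_option autoImplicit false

namespace Cfsg.Agent.H340.RV.Rank4

variable {Y : Type*} [Group Y] {F : Type} [Field F]

theorem three_eq_zero [Finite F] (hF : Nat.card F = 3) : (3 : F) = 0 := by
  have h3 : ((Nat.card F : ℕ) : F) = 0 := by
    have _ : Fintype F := Fintype.ofFinite F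
    rw [Nat.card_eq_fintype_card]
    exact FiniteField.cast_card_eq_zero F
  rw [hF] at h3
  exact_mod_cast h3

theorem two_ne_zero_of_odd [Finite F] (hF : Odd (Nat.card F)) : (2 : F) ≠ 0 := by
  intro h
  have _ : Fintype F := Fintype.ofFinite F
  rw [Nat.card_eq_fintype_card] at hF
  have h1 : ringChar F ∣ 2 := (ringChar.spec F 2).1 (by exact_mod_cast h)
  have h2 : ringChar F = 2 := by
    rcases (Nat.dvd_prime Nat.prime_two).1 h1 with h2 | h2
    · exfalso
      have h4 := CharP.char_is_prime F (ringChar F)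
      rw [h2] at h4
      exact Nat.not_prime_one h4
    · exact h2
  have h3 := FiniteField.even_card_of_char_two h2
  have h4 := Nat.odd_iff.1 hF
  omega

/-- `PSp_4(3)` -/
theorem psp4_three [Finite F] (hF : Nat.card F = 3) (e : Y ≃* Cfsg.PSp 2 F) : HasE16 Y :=
  (e16_psp4 (three_eq_zero hF)).congr e.symm

/-- `PSU_4(q)`, `q` odd -/
theorem psu4 [Finite F] {q : ℕ} (hF : Nat.card F = q ^ 2) (hq : Odd q) (e : Y ≃* Cfsg.PSU 4 F q) : HasE16 Y :=
  (e16_psu4 hq (two_ne_zero_of_odd (by rw [hF]; exact hq.pow))).congr e.symm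

/-- `PSp_6(2)` -/
theorem psp6_two [Finite F] (hF : Nat.card F = 2) (e : Y ≃* Cfsg.PSp 3 F) : HasE16 Y :=
  (e16_psp6 hF).congr e.symm

/-- `POmega_8^+(2)` -/
theorem o8_two [Finite F] (hF : Nat.card F = 2) (e : Y ≃* Cfsg.POmega F (Cfsg.quadFormPlus 4 F)) : HasE16 Y :=
  (e16_o8 hF).congr e.symm

/-- `POmega_(2m+1)(q)`, `q` odd, `m ≥ 3` -/
theorem oOdd [Finite F] {m : ℕ} (hm : 3 ≤ m) (hF : Odd (Nat.card F)) (e : Y ≃* Cfsg.POmega F (Cfsg.quadFormOdd m F)) :
    HasE16 Y := by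
  have h2 := two_ne_zero_of_odd hF
  have h := e16_omega (Cfsg.Agent.H170.HL.OmRow.goodQ_odd (m := m) (by omega) h2) h2 (by
    rw [Fintype.card_sum, Fintype.card_sum, Fintype.card_fin, Fintype.card_unit]
    omega)
  rw [Cfsg.Agent.LieClassical.OrthForms.coe_oddForm m F] at h
  exact h.congr e.symm

end Cfsg.Agent.H340.RV.Rank4
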