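import Mathlib

/-!
# Isometries supported on small subspaces (helper340)
-/

set_option autoImplicit false

namespace Cfsg.Agent.H340.RV

open Module Polynomial

section Rv

variable {F : Type*} [Field F]

/-- the reversed polynomial -/
noncomputable def rv (f : F[X]) : F[X] :=
  ∑ i ∈ Finset.range (f.natDegree + 1), C (f.coeff i) * X ^ (f.natDegree - i)

theorem natDegree_rv_le (f : F[X]) : (rv f).natDegree ≤ f.natDegree := by
  refine natDegree_sum_le_of_forall_le _ _ fun i _ => ?_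
  exact (natDegree_C_mul_X_pow_le _ _).trans (Nat.sub_le _ _)

theorem eval_rv (f : F[X]) : (rv f).eval 0 = f.leadingCoeff := by
  rw [rv, eval_finsetSum, Finset.sum_range_succ, Finset.sum_eq_zero, zero_add, Nat.sub_self, pow_zero, mul_one,
    eval_C]
  · rfl
  · intro i hi
    have h1 : i < f.natDegree := Finset.mem_range.1 hi
    rw [eval_mul, eval_pow, eval_X, zero_pow (by omega), mul_zero]

theorem rv_ne_zero {f : F[X]} (hf : f ≠ 0) : rv f ≠ 0 := by
  intro h
  have h1 := eval_rv f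
  rw [h, eval_zero] at h1
  exact hf (leadingCoeff_eq_zero.1 h1.symm)

theorem pow_mul_pow_eq {A : Type*} [Ring A] {x y : A} (h : x * y = 1) (i : ℕ) : x ^ i * y ^ i = 1 := by
  induction i with
  | zero => simp
  | succ i ih => rw [pow_succ, pow_succ', mul_assoc, ← mul_assoc x y, h, one_mul, ih]

theorem aeval_rv {A : Type*} [Ring A] [Algebra F A] {x y : A} (h : x * y = 1) (f : F[X]) :
    aeval x (rv f) = x ^ f.natDegree * aeval y f := by
  rw [rv, map_sum, aeval_eq_sum_range, Finset.mul_sum]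
  refine Finset.sum_congr rfl fun i hi => ?_
  have h1 : i ≤ f.natDegree := Nat.lt_succ_iff.1 (Finset.mem_range.1 hi)
  rw [map_mul, map_pow, aeval_X, aeval_C, mul_smul_comm, Algebra.smul_def]
  congr 1
  conv_rhs => rw [← Nat.sub_add_cancel h1, pow_add, mul_assoc, pow_mul_pow_eq h, mul_one]

end Rv

section Cyc

variable {F V : Type*} [Field F] [AddCommGroup V] [Module F V]

/-- the cyclic module -/
noncomputable def cyc (T : End F V) (v : V) : Submodule F V :=
  LinearMap.range ((LinearMap.applyₗ v) ∘ₗ (aeval (R := F) T).toLinearMap)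

theorem mem_cyc {T : End F V} {v w : V} : w ∈ cyc T v ↔ ∃ g : F[X], aeval T g v = w := Iff.rfl

theorem self_mem_cyc (T : End F V) (v : V) : v ∈ cyc T v := ⟨1, by simp⟩

theorem aeval_mem_cyc {T : End F V} {v w : V} (hw : w ∈ cyc T v) (g : F[X]) : aeval T g w ∈ cyc T v := by
  obtain ⟨h, rfl⟩ := mem_cyc.1 hw
  refine mem_cyc.2 ⟨g * h, ?_⟩
  rw [map_mul]
  rfl

theorem aeval_zero_of_mem_cyc {T : End F V} {v w : V} (hw : w ∈ cyc T v) {g : F[X]} (hg : aeval T g v = 0) :
    aeval T g w = 0 := by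
  obtain ⟨h, rfl⟩ := mem_cyc.1 hw
  rw [← Module.End.mul_apply, ← map_mul, mul_comm, map_mul, Module.End.mul_apply, hg, map_zero]

theorem finrank_cyc_le {T : End F V} {v : V} {f : F[X]} (hf : f.Monic) (hv : aeval T f v = 0) :
    finrank F (cyc T v) ≤ f.natDegree := by
  have h1 : cyc T v ≤ (degreeLT F f.natDegree).map ((LinearMap.applyₗ v) ∘ₗ (aeval (R := F) T).toLinearMap) := by
    rintro _ ⟨g, rfl⟩
    refine ⟨g %ₘ f, ?_, ?_⟩
    · rw [SetLike.mem_coe, mem_degreeLT]
      refine (degree_modByMonic_lt g hf).trans_le ?_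
      exact degree_le_natDegree
    · show aeval T (g %ₘ f) v = aeval T g v
      conv_rhs => rw [← modByMonic_add_div g f]
      rw [map_add, LinearMap.add_apply, mul_comm, map_mul, Module.End.mul_apply, hv, map_zero, add_zero]
  have h2 : Module.Finite F (degreeLT F f.natDegree) := Module.Finite.equiv (degreeLTEquiv F f.natDegree).symm
  refine (Submodule.finrank_mono h1).trans ((Submodule.finrank_map_le _ _).trans ?_)
  rw [LinearEquiv.finrank_eq (degreeLTEquiv F f.natDegree), Module.finrank_fin_fun]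

theorem exists_aeval_eq {T : End F V} {v w : V} {f : F[X]} (hf : Irreducible f) (hv : aeval T f v = 0)
    (hw : w ∈ cyc T v) (hw0 : w ≠ 0) : ∃ h : F[X], aeval T h w = v := by
  obtain ⟨g, rfl⟩ := mem_cyc.1 hw
  have h1 : IsCoprime f g := by
    rw [hf.coprime_iff_not_dvd]
    rintro ⟨k, rfl⟩
    apply hw0
    rw [mul_comm, map_mul, Module.End.mul_apply, hv, map_zero]
  obtain ⟨a, b, hab⟩ := h1
  refine ⟨b, ?_⟩
  have h2 : aeval T (a * f + b * g) v = v := by rw [hab, map_one, Module.End.one_apply]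
  rwa [map_add, LinearMap.add_apply, map_mul, map_mul, Module.End.mul_apply, Module.End.mul_apply, hv, map_zero,
    zero_add] at h2

end Cyc

section Form

variable {F V : Type*} [Field F] [AddCommGroup V] [Module F V] {B : V →ₗ[F] V →ₗ[F] F}

theorem adj {T S : End F V} (h : ∀ u v, B (T u) v = B u (S v)) (g : F[X]) (u v : V) :
    B (aeval T g u) v = B u (aeval S g v) := by
  have h1 : ∀ (i : ℕ) (u v : V), B ((T ^ i) u) v = B u ((S ^ i) v) := by
    intro i
    induction i with
    | zero => intro u v; rfl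
    | succ i ih =>
      intro u v
      rw [pow_succ', Module.End.mul_apply, h, ih, ← Module.End.mul_apply, ← pow_succ]
  induction g using Polynomial.induction_on' with
  | add p q hp hq => rw [map_add, map_add, LinearMap.add_apply, LinearMap.add_apply, map_add, map_add,
      LinearMap.add_apply, hp, hq]
  | monomial n a =>
    rw [aeval_monomial, aeval_monomial, Module.End.mul_apply, Module.End.mul_apply, Module.algebraMap_end_apply,
      Module.algebraMap_end_apply, map_smul, LinearMap.smul_apply, map_smul, h1]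

/-- Extension by the identity on the orthogonal complement. -/
theorem exists_ext [FiniteDimensional F V] (hs : ∀ u v, B u v = B v u) {T : V ≃ₗ[F] V}
    (hT : ∀ u v, B (T u) (T v) = B u v) {W : Submodule F V} (hW : ∀ w ∈ W, T w ∈ W) (hW' : ∀ w ∈ W, T.symm w ∈ W)
    (hd : ∀ w ∈ W, (∀ u ∈ W, B u w = 0) → w = 0) :
    ∃ y : V ≃ₗ[F] V, (∀ u v, B (y u) (y v) = B u v) ∧ (∀ w ∈ W, y w = T w) ∧ (∀ w, (∀ u ∈ W, B u w = 0) → y w = w) ∧
      (∀ v, ∃ a ∈ W, ∃ b, (∀ u ∈ W, B u b = 0) ∧ v = a + b) := by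
  have h0 : LinearMap.IsRefl B := fun u v h => by rw [hs, h]
  have h1 : IsCompl W (LinearMap.BilinForm.orthogonal B W) := by
    rw [LinearMap.BilinForm.isCompl_orthogonal_iff_disjoint h0, Submodule.disjoint_def]
    intro x hx hx'
    exact hd x hx fun u hu => hx' u hu
  have hex : ∀ v, ∃ a ∈ W, ∃ b, (∀ u ∈ W, B u b = 0) ∧ v = a + b := by
    intro v
    have h2 : v ∈ W ⊔ LinearMap.BilinForm.orthogonal B W := by rw [h1.sup_eq_top]; trivial
    obtain ⟨a, ha, b, hb, hab⟩ := Submodule.mem_sup.1 h2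
    exact ⟨a, ha, b, fun u hu => hb u hu, hab.symm⟩
  let P : V →ₗ[F] V := W.subtype ∘ₗ W.projectionOnto _ h1
  have hP : ∀ v, P v ∈ W := fun v => (W.projectionOnto _ h1 v).2
  have hP1 : ∀ w ∈ W, P w = w := fun w hw => by
    show ((W.projectionOnto _ h1 w : W) : V) = w
    rw [show w = ((⟨w, hw⟩ : W) : V) from rfl, Submodule.projectionOnto_apply_left]
  have hP2 : ∀ w, (∀ u ∈ W, B u w = 0) → P w = 0 := fun w hw => by
    show ((W.projectionOnto _ h1 w : W) : V) = 0
    have h3 : w ∈ LinearMap.BilinForm.orthogonal B W := fun u hu => hw u hu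
    rw [(Submodule.projectionOnto_apply_eq_zero_iff h1).2 h3]
    rfl
  let e1 : V →ₗ[F] V := T.toLinearMap ∘ₗ P + (LinearMap.id - P)
  let e2 : V →ₗ[F] V := T.symm.toLinearMap ∘ₗ P + (LinearMap.id - P)
  have he1 : ∀ w ∈ W, e1 w = T w := fun w hw => by
    show T (P w) + (w - P w) = T w
    rw [hP1 w hw, sub_self, add_zero]
  have he2 : ∀ w ∈ W, e2 w = T.symm w := fun w hw => by
    show T.symm (P w) + (w - P w) = T.symm w
    rw [hP1 w hw, sub_self, add_zero]
  have he1' : ∀ w, (∀ u ∈ W, B u w = 0) → e1 w = w := fun w hw => by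
    show T (P w) + (w - P w) = w
    rw [hP2 w hw, map_zero, sub_zero, zero_add]
  have he2' : ∀ w, (∀ u ∈ W, B u w = 0) → e2 w = w := fun w hw => by
    show T.symm (P w) + (w - P w) = w
    rw [hP2 w hw, map_zero, sub_zero, zero_add]
  have h12 : e1 ∘ₗ e2 = LinearMap.id := by
    ext v
    obtain ⟨a, ha, b, hb, rfl⟩ := hex v
    rw [LinearMap.comp_apply, map_add, he2 a ha, he2' b hb, map_add, he1 _ (hW' a ha), he1' b hb,
      LinearEquiv.apply_symm_apply]
    rfl
  have h21 : e2 ∘ₗ e1 = LinearMap.id := by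
    ext v
    obtain ⟨a, ha, b, hb, rfl⟩ := hex v
    rw [LinearMap.comp_apply, map_add, he1 a ha, he1' b hb, map_add, he2 _ (hW a ha), he2' b hb,
      LinearEquiv.symm_apply_apply]
    rfl
  refine ⟨LinearEquiv.ofLinearMap e1 e2 h12 h21, ?_, he1, he1', hex⟩
  intro u v
  show B (e1 u) (e1 v) = B u v
  obtain ⟨a, ha, b, hb, rfl⟩ := hex u
  obtain ⟨c, hc, d, hd', rfl⟩ := hex v
  rw [map_add e1, map_add e1, he1 a ha, he1 c hc, he1' b hb, he1' d hd']
  simp only [map_add, LinearMap.add_apply]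
  rw [hT, hd' _ (hW a ha), hs b (T c), hb _ (hW c hc), hd' a ha, hs b c, hb c hc]

theorem pow_symm_mem {T : V ≃ₗ[F] V} {N : ℕ} (hN : N ≠ 0) (hTN : T ^ N = 1) :
    ((T.symm : V ≃ₗ[F] V) : V →ₗ[F] V) = aeval (T : V →ₗ[F] V) (X ^ (N - 1) : F[X]) := by
  rw [map_pow, aeval_X]
  ext v
  have h1 : ∀ (i : ℕ) (v : V), (((T : V →ₗ[F] V) : End F V) ^ i) v = (T ^ i) v := by
    intro i
    induction i with
    | zero => intro v; rfl
    | succ i ih => intro v; rw [pow_succ, pow_succ, Module.End.mul_apply, ih]; rfl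
  rw [h1]
  apply T.injective
  show T (T.symm v) = T ((T ^ (N - 1)) v)
  rw [LinearEquiv.apply_symm_apply]
  have h2 : T ((T ^ (N - 1)) v) = (T * T ^ (N - 1)) v := rfl
  rw [h2, ← pow_succ', Nat.sub_add_cancel (Nat.one_le_iff_ne_zero.2 hN), hTN]
  rfl

theorem end_pow_apply (T : V ≃ₗ[F] V) (i : ℕ) (v : V) : (((T : V →ₗ[F] V) : End F V) ^ i) v = (T ^ i) v := by
  induction i generalizing v with
  | zero => rfl
  | succ i ih => rw [pow_succ, pow_succ, Module.End.mul_apply, ih]; rfl

/-- what `T` on `W`, `1` on the complement satisfies -/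
theorem ext_props {T y : V ≃ₗ[F] V} {W : Submodule F V} (hW : ∀ w ∈ W, T w ∈ W)
    (h1 : ∀ w ∈ W, y w = T w) (h2 : ∀ w, (∀ u ∈ W, B u w = 0) → y w = w)
    (h3 : ∀ v, ∃ a ∈ W, ∃ b, (∀ u ∈ W, B u b = 0) ∧ v = a + b) :
    (∀ g : F[X], ∀ w ∈ W, aeval (y : V →ₗ[F] V) g w = aeval (T : V →ₗ[F] V) g w) ∧
    (∀ g : F[X], (∀ w ∈ W, aeval (T : V →ₗ[F] V) g w = 0) → aeval (y : V →ₗ[F] V) ((X - 1) * g) = 0) ∧
    (∀ M : ℕ, (∀ w ∈ W, aeval (T : V →ₗ[F] V) (X ^ M - 1 : F[X]) w = 0) → y ^ M = 1) ∧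
    LinearMap.range ((y : V →ₗ[F] V) - LinearMap.id) ≤ W := by
  have hpow : ∀ (i : ℕ), ∀ w ∈ W, (T ^ i) w ∈ W := by
    intro i
    induction i with
    | zero => intro w hw; exact hw
    | succ i ih => intro w hw; rw [pow_succ']; exact hW _ (ih w hw)
  have hyT : ∀ (i : ℕ), ∀ w ∈ W, (y ^ i) w = (T ^ i) w := by
    intro i
    induction i with
    | zero => intro w _; rfl
    | succ i ih =>
      intro w hw
      rw [pow_succ', pow_succ', LinearEquiv.mul_apply, ih w hw, h1 _ (hpow i w hw)]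
      rfl
  have hg : ∀ g : F[X], ∀ w ∈ W, aeval (y : V →ₗ[F] V) g w = aeval (T : V →ₗ[F] V) g w := by
    intro g w hw
    induction g using Polynomial.induction_on' with
    | add p q hp hq => rw [map_add, map_add, LinearMap.add_apply, LinearMap.add_apply, hp, hq]
    | monomial n a =>
      rw [aeval_monomial, aeval_monomial, Module.End.mul_apply, Module.End.mul_apply, Module.algebraMap_end_apply,
        Module.algebraMap_end_apply, end_pow_apply, end_pow_apply, hyT n w hw]
  have hX : ∀ w, aeval (y : V →ₗ[F] V) (X - 1 : F[X]) w = y w - w := by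
    intro w
    rw [map_sub, aeval_X, map_one]
    rfl
  refine ⟨hg, ?_, ?_, ?_⟩
  · intro g h0
    ext v
    obtain ⟨a, ha, b, hb, rfl⟩ := h3 v
    rw [map_add, LinearMap.zero_apply]
    have h4 : aeval (y : V →ₗ[F] V) ((X - 1) * g) a = 0 := by
      rw [map_mul, Module.End.mul_apply, hg g a ha, h0 a ha, map_zero]
    have h5 : aeval (y : V →ₗ[F] V) ((X - 1) * g) b = 0 := by
      rw [mul_comm, map_mul, Module.End.mul_apply, hX, h2 b hb, sub_self, map_zero]
    rw [h4, h5, add_zero]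
  · intro M hM
    ext v
    obtain ⟨a, ha, b, hb, rfl⟩ := h3 v
    have h4 : (y ^ M) a = a := by
      have h5 := hM a ha
      rw [map_sub, map_pow, aeval_X, map_one, LinearMap.sub_apply, end_pow_apply, Module.End.one_apply, sub_eq_zero] at h5
      rw [hyT M a ha, h5]
    have h5 : ∀ i : ℕ, (y ^ i) b = b := by
      intro i
      induction i with
      | zero => rfl
      | succ i ih => rw [pow_succ, LinearEquiv.mul_apply, h2 b hb, ih]
    rw [map_add, h4, h5]
    rfl
  · rintro _ ⟨v, rfl⟩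
    obtain ⟨a, ha, b, hb, rfl⟩ := h3 v
    show y (a + b) - (a + b) ∈ W
    rw [map_add, h2 b hb, h1 a ha, add_sub_add_right_eq_sub]
    exact W.sub_mem (hW a ha) ha

end Form

end Cfsg.Agent.H340.RV
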