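import Mathlib
import Cfsg.Prelude.Def_Classical

/-!
# Elementary abelian subgroups of order 16 (helper340)

`PSp_4(3)`, `PSU_4(3)`, `PΩ_7(3)`, `PSp_6(2)`, `PΩ_8^+(2)` contain elementary abelian subgroups of order 16.
-/

set_option autoImplicit false

namespace Cfsg.Agent.H340.RV.Rank4

open Subgroup

/-- there is an elementary abelian subgroup of order 16 -/
def HasE16 (Y : Type*) [Group Y] : Prop := ∃ E : Subgroup Y, Nat.card E = 16 ∧ ∀ x ∈ E, x * x = 1

section Abs

variable {Q : Type*} [Group Q]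

theorem step {E : Subgroup Q} (hE : ∀ x ∈ E, x * x = 1) {a : Q} (ha : a * a = 1)
    (hc : ∀ x ∈ E, x * a = a * x) (hn : a ∉ E) :
    ∃ E' : Subgroup Q, E ≤ E' ∧ a ∈ E' ∧ Nat.card E' = Nat.card E * 2 ∧ (∀ x ∈ E', x * x = 1) ∧
      E' ≤ E ⊔ zpowers a := by
  have hxa : ∀ x, x * a ∈ E → x * a = a * x := fun x hx => by
    have h1 := hc _ hx
    rw [mul_assoc, ha, mul_one] at h1
    have h2 : a * x = a * (x * a) * a := by rw [mul_assoc, mul_assoc, ha, mul_one]
    rw [h2, ← h1]
  let E' : Subgroup Q :=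
    { carrier := {x | x ∈ E ∨ x * a ∈ E}
      one_mem' := Or.inl E.one_mem
      mul_mem' := by
        rintro x y (hx | hx) (hy | hy)
        · exact Or.inl (E.mul_mem hx hy)
        · right
          rw [mul_assoc]
          exact E.mul_mem hx hy
        · right
          have h1 : x * y * a = (x * a) * y := by rw [mul_assoc, hc y hy, mul_assoc]
          rw [h1]
          exact E.mul_mem hx hy
        · left
          have h1 : x * y = (x * a) * (y * a) := by
            rw [mul_assoc, ← mul_assoc a y a, ← hxa y hy, mul_assoc y, ha, mul_one]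
          rw [h1]
          exact E.mul_mem hx hy
      inv_mem' := by
        rintro x (hx | hx)
        · exact Or.inl (E.inv_mem hx)
        · right
          have h0 : a⁻¹ = a := inv_eq_of_mul_eq_one_left ha
          have h1 : x⁻¹ * a = (x * a)⁻¹ := by rw [hxa x hx, mul_inv_rev, h0]
          rw [h1]
          exact E.inv_mem hx }
  have hle : E ≤ E' := fun x hx => Or.inl hx
  have ha' : a ∈ E' := Or.inr (by rw [ha]; exact E.one_mem)
  refine ⟨E', hle, ha', ?_, ?_, ?_⟩
  · have h1 : (E.subgroupOf E').index = 2 := by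
      rw [Subgroup.index_eq_two_iff]
      refine ⟨⟨a, ha'⟩, fun b => ?_⟩
      rw [mem_subgroupOf, mem_subgroupOf]
      show Xor ((b : Q) * a ∈ E) ((b : Q) ∈ E)
      rcases b.2 with h | h
      · refine Or.inr ⟨h, fun h1 => hn ?_⟩
        exact (E.mul_mem_cancel_left h).1 h1
      · refine Or.inl ⟨h, fun h1 => hn ?_⟩
        exact (E.mul_mem_cancel_left h1).1 h
    have h2 := (E.subgroupOf E').card_mul_index
    rw [h1, Nat.card_congr (subgroupOfEquivOfLe hle).toEquiv] at h2
    exact h2.symm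
  · rintro x (hx | hx)
    · exact hE x hx
    · have h1 := hE _ hx
      rw [mul_assoc, ← mul_assoc a x a, ← hxa x hx, mul_assoc x, ha, mul_one] at h1
      exact h1
  · rintro x (hx | hx)
    · exact mem_sup_left hx
    · have h1 : x = (x * a) * a := by rw [mul_assoc, ha, mul_one]
      rw [h1]
      exact mul_mem_sup hx (mem_zpowers a)

/-- four commuting involutions, each one outside a subgroup which contains the previous ones -/
theorem of_chain {a b c d : Q} {K1 K2 K3 : Subgroup Q} (ha : a * a = 1) (hb : b * b = 1) (hc : c * c = 1)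
    (hd : d * d = 1) (hab : a * b = b * a) (hac : a * c = c * a) (had : a * d = d * a) (hbc : b * c = c * b)
    (hbd : b * d = d * b) (hcd : c * d = d * c) (h0 : a ≠ 1) (h1a : a ∈ K1) (h1 : b ∉ K1) (h2a : a ∈ K2)
    (h2b : b ∈ K2) (h2 : c ∉ K2) (h3a : a ∈ K3) (h3b : b ∈ K3) (h3c : c ∈ K3) (h3 : d ∉ K3) : HasE16 Q := by
  have hcent : ∀ {E : Subgroup Q} {x y : Q}, (∀ z ∈ E, z * y = y * z) → x * y = y * x →
      ∀ z ∈ E ⊔ zpowers x, z * y = y * z := by
    intro E x y hE hx z hz
    have h : E ⊔ zpowers x ≤ centralizer ({y} : Set Q) := by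
      refine sup_le (fun w hw => ?_) ?_
      · rw [mem_centralizer_singleton_iff]
        exact hE w hw
      · rw [zpowers_le, mem_centralizer_singleton_iff]
        exact hx
    have h2 := h hz
    rw [mem_centralizer_singleton_iff] at h2
    exact h2
  obtain ⟨E1, -, -, c1, e1, l1⟩ := step (E := (⊥ : Subgroup Q)) (fun x hx => by rw [mem_bot.1 hx, one_mul]) ha
    (fun x hx => by rw [mem_bot.1 hx, one_mul, mul_one]) (fun h => h0 (mem_bot.1 h))
  have q1 : ∀ y, a * y = y * a → ∀ z ∈ E1, z * y = y * z := fun y hy z hz =>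
    hcent (E := ⊥) (fun w hw => by rw [mem_bot.1 hw, one_mul, mul_one]) hy z (l1 hz)
  have k1 : ∀ K : Subgroup Q, a ∈ K → E1 ≤ K := fun K hK => l1.trans (sup_le bot_le (zpowers_le.2 hK))
  obtain ⟨E2, -, -, c2, e2, l2⟩ := step e1 hb (q1 b hab) (fun h => h1 (k1 K1 h1a h))
  have q2 : ∀ y, a * y = y * a → b * y = y * b → ∀ z ∈ E2, z * y = y * z := fun y hy hy' z hz =>
    hcent (q1 y hy) hy' z (l2 hz)
  have k2 : ∀ K : Subgroup Q, a ∈ K → b ∈ K → E2 ≤ K := fun K hK hK' =>
    l2.trans (sup_le (k1 K hK) (zpowers_le.2 hK'))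
  obtain ⟨E3, -, -, c3, e3, l3⟩ := step e2 hc (q2 c hac hbc) (fun h => h2 (k2 K2 h2a h2b h))
  have q3 : ∀ y, a * y = y * a → b * y = y * b → c * y = y * c → ∀ z ∈ E3, z * y = y * z := fun y hy hy' hy'' z hz =>
    hcent (q2 y hy hy') hy'' z (l3 hz)
  have k3 : ∀ K : Subgroup Q, a ∈ K → b ∈ K → c ∈ K → E3 ≤ K := fun K hK hK' hK'' =>
    l3.trans (sup_le (k2 K hK hK') (zpowers_le.2 hK''))
  obtain ⟨E4, -, -, c4, e4, l4⟩ := step e3 hd (q3 d had hbd hcd) (fun h => h3 (k3 K3 h3a h3b h3c h))
  refine ⟨E4, ?_, e4⟩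
  rw [c4, c3, c2, c1, Subgroup.card_bot]

/-- from an additive group of exponent two in a group modulo its centre -/
theorem of_hom {G A : Type*} [Group G] [AddCommGroup A] (hA : Nat.card A = 16) (h2 : ∀ a : A, a + a = 0)
    (φ : Multiplicative A →* G) (hφ : ∀ a : A, a ≠ 0 → ∃ g : G, φ (Multiplicative.ofAdd a) * g ≠ g * φ (Multiplicative.ofAdd a)) :
    HasE16 (G ⧸ center G) := by
  let ψ : Multiplicative A →* G ⧸ center G := (QuotientGroup.mk' _).comp φ
  have hψ : Function.Injective ψ := by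
    rw [injective_iff_map_eq_one]
    intro a ha
    by_contra h
    obtain ⟨g, hg⟩ := hφ (Multiplicative.toAdd a) h
    have h3 : φ a ∈ center G := (QuotientGroup.eq_one_iff _).1 ha
    exact hg ((mem_center_iff.1 h3 g).symm)
  refine ⟨ψ.range, ?_, ?_⟩
  · rw [← Nat.card_congr (MonoidHom.ofInjective hψ).toEquiv]
    exact hA
  · rintro _ ⟨a, rfl⟩
    rw [← map_mul]
    have h3 : a * a = 1 := h2 (Multiplicative.toAdd a)
    rw [h3, map_one]

/-- from an extraspecial group modulo the centre -/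
theorem of_extra {G : Type*} [Group G] {a b c d ε : G} (hε : ε ≠ 1) (hεc : ε ∈ center G) (ha : a * a ∈ center G)
    (hb : b * b ∈ center G) (hc : c * c ∈ center G) (hd : d * d ∈ center G) (hab : a * b = ε * (b * a))
    (hcd : c * d = ε * (d * c)) (hac : a * c = c * a) (had : a * d = d * a) (hbc : b * c = c * b)
    (hbd : b * d = d * b) : HasE16 (G ⧸ center G) := by
  let m : G →* G ⧸ center G := QuotientGroup.mk' _
  have hm : ∀ x ∈ center G, m x = 1 := fun x hx => (QuotientGroup.eq_one_iff _).2 hx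
  have hsq : ∀ x, x * x ∈ center G → m x * m x = 1 := fun x hx => by rw [← map_mul, hm _ hx]
  have hcm : ∀ x y, x * y = y * x → m x * m y = m y * m x := fun x y h => by rw [← map_mul, ← map_mul, h]
  have hcε : ∀ x y, x * y = ε * (y * x) → m x * m y = m y * m x := fun x y h => by
    rw [← map_mul, h, map_mul, hm _ hεc, one_mul, map_mul]
  let K : G → Subgroup (G ⧸ center G) := fun g => (centralizer ({g} : Set G)).map m
  have hK : ∀ x g, x * g = g * x → m x ∈ K g := fun x g h =>
    mem_map_of_mem _ (mem_centralizer_singleton_iff.2 h)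
  have hK' : ∀ x g, m x ∈ K g → x * g = g * x := by
    rintro x g ⟨y, hy, hyx⟩
    have h1 : y⁻¹ * x ∈ center G := QuotientGroup.eq.1 hyx
    have h2 : x = y * (y⁻¹ * x) := by group
    rw [h2, mul_assoc, ← mem_center_iff.1 h1 g, ← mul_assoc, mem_centralizer_singleton_iff.1 hy, mul_assoc]
  have hne : ∀ x y, x * y = ε * (y * x) → ¬ x * y = y * x := fun x y h h1 => by
    rw [h1] at h
    exact hε (mul_eq_right.1 h.symm)
  have hne' : ∀ x y, x * y = ε * (y * x) → ¬ y * x = x * y := fun x y h h1 => hne x y h h1.symm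
  refine of_chain (a := m a) (b := m b) (c := m c) (d := m d) (K1 := K a) (K2 := K d) (K3 := K c)
    (hsq a ha) (hsq b hb) (hsq c hc) (hsq d hd) (hcε _ _ hab) (hcm _ _ hac) (hcm _ _ had) (hcm _ _ hbc)
    (hcm _ _ hbd) (hcε _ _ hcd) ?_ (hK _ _ rfl) (fun h => hne' _ _ hab (hK' _ _ h)) (hK _ _ had) (hK _ _ hbd)
    (fun h => hne _ _ hcd (hK' _ _ h)) (hK _ _ hac) (hK _ _ hbc) (hK _ _ rfl)
    (fun h => hne' _ _ hcd (hK' _ _ h))
  intro h
  have h1 : a ∈ center G := (QuotientGroup.eq_one_iff _).1 h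
  exact hne _ _ hab ((mem_center_iff.1 h1 b).symm)

theorem HasE16.congr {Y Y' : Type*} [Group Y] [Group Y'] (e : Y ≃* Y') (h : HasE16 Y) : HasE16 Y' := by
  obtain ⟨E, h1, h2⟩ := h
  refine ⟨E.map e.toMonoidHom, ?_, ?_⟩
  · rw [← h1]
    exact (Nat.card_congr (E.equivMapOfInjective _ e.injective).toEquiv).symm
  · rintro _ ⟨x, hx, rfl⟩
    rw [← map_mul, h2 x hx, map_one]

/-- lift through a normal subgroup of odd order -/
theorem HasE16.lift {K : Type*} [Group K] [Finite K] {N : Subgroup K} [N.Normal] (hN : Odd (Nat.card N))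
    (h : HasE16 (K ⧸ N)) : HasE16 K := by
  obtain ⟨E, h1, h2⟩ := h
  let M : Subgroup K := E.comap (QuotientGroup.mk' N)
  have _ : Fact (Nat.Prime 2) := ⟨Nat.prime_two⟩
  let P : Sylow 2 M := default
  have hcard : Nat.card M = 16 * Nat.card N := by
    have h3 := M.card_mul_index
    have h4 := E.card_mul_index
    have h5 : M.index = E.index := E.index_comap_of_surjective (QuotientGroup.mk'_surjective N)
    have h6 := N.card_eq_card_quotient_mul_card_subgroup
    rw [h5] at h3
    rw [h6, ← h4, h1] at h3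
    have h7 : 0 < E.index := Nat.pos_of_ne_zero E.index_ne_zero_of_finite
    nlinarith
  have hP : Nat.card P = 16 := by
    rw [P.card_eq_multiplicity, hcard, Nat.factorization_mul (by norm_num) Nat.card_pos.ne', Finsupp.add_apply,
      Nat.factorization_eq_zero_of_not_dvd (fun h => (Nat.not_even_iff_odd.2 hN) (even_iff_two_dvd.2 h)),
      show (16 : ℕ) = 2 ^ 4 by norm_num, Nat.Prime.factorization_pow Nat.prime_two, Finsupp.single_eq_same]
  refine ⟨(P : Subgroup M).map M.subtype, ?_, ?_⟩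
  · rw [← hP]
    exact (Nat.card_congr ((P : Subgroup M).equivMapOfInjective _ M.subtype_injective).toEquiv).symm
  · rintro _ ⟨x, hx, rfl⟩
    have h3 : (x : K) * x ∈ N := by
      have h4 := h2 _ x.2
      exact (QuotientGroup.eq_one_iff _).1 h4
    have h5 : (2 : ℕ).Coprime (orderOf ((x : K) * x)) := by
      have h6 : orderOf ((x : K) * x) ∣ Nat.card N := by
        have h7 := orderOf_dvd_natCard (⟨_, h3⟩ : N)
        rwa [← Subgroup.orderOf_coe] at h7
      exact (hN.of_dvd_nat h6).coprime_two_left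
    have h6 : orderOf ((x : K) * x) ∣ 16 := by
      rw [← hP]
      have h7 := orderOf_dvd_natCard (⟨x * x, mul_mem hx hx⟩ : (P : Subgroup M))
      rw [← Subgroup.orderOf_coe, ← Subgroup.orderOf_coe] at h7
      exact h7
    have h8 : Nat.Coprime (orderOf ((x : K) * x)) (2 ^ 4) := (h5.symm).pow_right 4
    exact orderOf_eq_one_iff.1 (Nat.Coprime.eq_one_of_dvd h8 (by norm_num; exact h6))

end Abs

end Cfsg.Agent.H340.RV.Rank4
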