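import Cfsg.Agent.H340.RV.Rank4

/-!
# Elementary abelian subgroups of order 16 in `PSp_4(3)`, `PSU_4(q)`, `PSp_6(2)` (helper340)
-/

set_option autoImplicit false

namespace Cfsg.Agent.H340.RV.Rank4

open Subgroup Matrix

section Sp4

variable {F : Type*} [Field F]

theorem e16_psp4 (h3 : (3 : F) = 0) : HasE16 (Cfsg.PSp 2 F) := by
  have h2 : (1 : F) + 1 = -1 := by linear_combination h3
  have h4 : (1 : Matrix (Fin 2) (Fin 2) F) + 1 = -1 := by
    ext i j
    fin_cases i <;> fin_cases j <;> simp [h2]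
  have h5 : (-1 : Matrix (Fin 2) (Fin 2) F) + -1 = 1 := by
    rw [← neg_add, h4, neg_neg]
  let d : Matrix (Fin 2) (Fin 2) F := !![1, 0; 0, -1]
  let s : Matrix (Fin 2) (Fin 2) F := !![0, 1; 1, 0]
  have hdd : d * d = 1 := by
    ext i j
    fin_cases i <;> fin_cases j <;> simp [d, Matrix.mul_apply]
  have hss : s * s = 1 := by
    ext i j
    fin_cases i <;> fin_cases j <;> simp [s, Matrix.mul_apply]
  have hds : d * s = -(s * d) := by
    ext i j
    fin_cases i <;> fin_cases j <;> simp [s, d, Matrix.mul_apply]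
  have hdt : dᵀ = d := by
    ext i j
    fin_cases i <;> fin_cases j <;> simp [d]
  have hst : sᵀ = s := by
    ext i j
    fin_cases i <;> fin_cases j <;> simp [s]
  let a : symplecticGroup (Fin 2) F := ⟨J (Fin 2) F, SymplecticGroup.J_mem _ _⟩
  let b : symplecticGroup (Fin 2) F := ⟨fromBlocks 1 1 1 (-1), by
    rw [SymplecticGroup.mem_iff, J, fromBlocks_transpose, fromBlocks_multiply, fromBlocks_multiply]
    simp [h4, h5]⟩
  let c : symplecticGroup (Fin 2) F := ⟨fromBlocks d 0 0 d, by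
    rw [SymplecticGroup.mem_iff, J, fromBlocks_transpose, fromBlocks_multiply, fromBlocks_multiply]
    simp [hdt, hdd]⟩
  let e : symplecticGroup (Fin 2) F := ⟨fromBlocks s 0 0 s, by
    rw [SymplecticGroup.mem_iff, J, fromBlocks_transpose, fromBlocks_multiply, fromBlocks_multiply]
    simp [hst, hss]⟩
  let ε : symplecticGroup (Fin 2) F := ⟨-1, SymplecticGroup.neg_mem (one_mem _)⟩
  have hεm : ε ∈ center (symplecticGroup (Fin 2) F) := by
    rw [mem_center_iff]
    intro g
    apply Subtype.ext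
    show (g.1 : Matrix (Fin 2 ⊕ Fin 2) (Fin 2 ⊕ Fin 2) F) * (-1) = (-1) * g.1
    rw [mul_neg, neg_mul, mul_one, one_mul]
  have h11 : (1 : F) ≠ 0 := one_ne_zero
  have hne : (-1 : F) ≠ 1 := fun h => by
    have h6 : (1 : F) + 1 = 1 := by rw [h2, h]
    exact h11 (by linear_combination h6)
  refine of_extra (a := a) (b := b) (c := c) (d := e) (ε := ε) ?_ hεm ?_ ?_ ?_ ?_ ?_ ?_ ?_ ?_ ?_ ?_
  · intro h
    have h6 : (-1 : Matrix (Fin 2 ⊕ Fin 2) (Fin 2 ⊕ Fin 2) F) (Sum.inl 0) (Sum.inl 0) = 1 := by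
      have h7 : (-1 : Matrix (Fin 2 ⊕ Fin 2) (Fin 2 ⊕ Fin 2) F) = 1 := congrArg Subtype.val h
      rw [h7, Matrix.one_apply_eq]
    rw [Matrix.neg_apply, Matrix.one_apply_eq] at h6
    exact hne h6
  · have h6 : a * a = ε := by
      apply Subtype.ext
      show J (Fin 2) F * J (Fin 2) F = -1
      rw [J_squared]
    rw [h6]
    exact hεm
  · have h6 : b * b = ε := by
      apply Subtype.ext
      show fromBlocks 1 1 1 (-1) * fromBlocks 1 1 1 (-1) = (-1 : Matrix (Fin 2 ⊕ Fin 2) (Fin 2 ⊕ Fin 2) F)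
      rw [fromBlocks_multiply, ← fromBlocks_one, fromBlocks_neg]
      simp [h4]
    rw [h6]
    exact hεm
  · have h6 : c * c = 1 := by
      apply Subtype.ext
      show fromBlocks d 0 0 d * fromBlocks d 0 0 d = (1 : Matrix (Fin 2 ⊕ Fin 2) (Fin 2 ⊕ Fin 2) F)
      rw [fromBlocks_multiply, ← fromBlocks_one]
      simp [hdd]
    rw [h6]
    exact one_mem _
  · have h6 : e * e = 1 := by
      apply Subtype.ext
      show fromBlocks s 0 0 s * fromBlocks s 0 0 s = (1 : Matrix (Fin 2 ⊕ Fin 2) (Fin 2 ⊕ Fin 2) F)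
      rw [fromBlocks_multiply, ← fromBlocks_one]
      simp [hss]
    rw [h6]
    exact one_mem _
  · apply Subtype.ext
    show J (Fin 2) F * fromBlocks 1 1 1 (-1) = -1 * (fromBlocks 1 1 1 (-1) * J (Fin 2) F)
    refine Eq.trans ?_ (neg_one_mul _).symm
    rw [J, fromBlocks_multiply, fromBlocks_multiply, fromBlocks_neg]
    simp
  · apply Subtype.ext
    show fromBlocks d 0 0 d * fromBlocks s 0 0 s =
      -1 * (fromBlocks s 0 0 s * fromBlocks d 0 0 d : Matrix (Fin 2 ⊕ Fin 2) (Fin 2 ⊕ Fin 2) F)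
    refine Eq.trans ?_ (neg_one_mul _).symm
    rw [fromBlocks_multiply, fromBlocks_multiply, fromBlocks_neg]
    simp [hds]
  all_goals
    apply Subtype.ext
  · show J (Fin 2) F * fromBlocks d 0 0 d = fromBlocks d 0 0 d * J (Fin 2) F
    rw [J, fromBlocks_multiply, fromBlocks_multiply]
    simp
  · show J (Fin 2) F * fromBlocks s 0 0 s = fromBlocks s 0 0 s * J (Fin 2) F
    rw [J, fromBlocks_multiply, fromBlocks_multiply]
    simp
  · show fromBlocks 1 1 1 (-1) * fromBlocks d 0 0 d =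
      (fromBlocks d 0 0 d * fromBlocks 1 1 1 (-1) : Matrix (Fin 2 ⊕ Fin 2) (Fin 2 ⊕ Fin 2) F)
    rw [fromBlocks_multiply, fromBlocks_multiply]
    simp
  · show fromBlocks 1 1 1 (-1) * fromBlocks s 0 0 s =
      (fromBlocks s 0 0 s * fromBlocks 1 1 1 (-1) : Matrix (Fin 2 ⊕ Fin 2) (Fin 2 ⊕ Fin 2) F)
    rw [fromBlocks_multiply, fromBlocks_multiply]
    simp

end Sp4

section Sp6

variable {F : Type*} [Field F]

/-- a symmetric matrix -/
def SM (v : Fin 4 → F) : Matrix (Fin 3) (Fin 3) F := !![v 0, v 3, 0; v 3, v 1, 0; 0, 0, v 2]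

theorem SM_transpose (v : Fin 4 → F) : (SM v)ᵀ = SM v := by
  ext i j
  fin_cases i <;> fin_cases j <;> rfl

theorem SM_zero : SM (0 : Fin 4 → F) = 0 := by
  ext i j
  fin_cases i <;> fin_cases j <;> rfl

theorem SM_add (v w : Fin 4 → F) : SM (v + w) = SM v + SM w := by
  ext i j
  fin_cases i <;> fin_cases j <;> simp [SM]

theorem SM_inj {v : Fin 4 → F} (h : SM v = 0) : v = 0 := by
  have h5 : ∀ i j, SM v i j = 0 := fun i j => by rw [h]; rfl
  ext i
  fin_cases i
  · exact h5 0 0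
  · exact h5 1 1
  · exact h5 2 2
  · exact h5 0 1

theorem two_eq_zero [Finite F] (hF : Nat.card F = 2) : (1 : F) + 1 = 0 := by
  have h3 : ((Nat.card F : ℕ) : F) = 0 := by
    have _ : Fintype F := Fintype.ofFinite F
    rw [Nat.card_eq_fintype_card]
    exact FiniteField.cast_card_eq_zero F
  rw [hF] at h3
  push_cast at h3
  linear_combination h3

theorem card_four [Finite F] (hF : Nat.card F = 2) : Nat.card (Fin 4 → F) = 16 := by
  rw [Nat.card_pi, Finset.prod_const, hF, Finset.card_univ, Fintype.card_fin]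
  norm_num

theorem exp_two [Finite F] (hF : Nat.card F = 2) (a : Fin 4 → F) : a + a = 0 := by
  ext i
  rw [Pi.add_apply, Pi.zero_apply]
  linear_combination a i * two_eq_zero hF

theorem e16_psp6 [Finite F] (hF : Nat.card F = 2) : HasE16 (Cfsg.PSp 3 F) := by
  let u : (Fin 4 → F) → symplecticGroup (Fin 3) F := fun v => ⟨fromBlocks 1 (SM v) 0 1, by
    rw [SymplecticGroup.mem_iff, J, fromBlocks_transpose, fromBlocks_multiply, fromBlocks_multiply]
    simp [SM_transpose]⟩
  let φ : Multiplicative (Fin 4 → F) →* symplecticGroup (Fin 3) F :=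
    { toFun := fun v => u (Multiplicative.toAdd v)
      map_one' := by
        apply Subtype.ext
        show fromBlocks 1 (SM 0) 0 1 = (1 : Matrix (Fin 3 ⊕ Fin 3) (Fin 3 ⊕ Fin 3) F)
        rw [SM_zero, fromBlocks_one]
      map_mul' := by
        intro v w
        apply Subtype.ext
        show fromBlocks 1 (SM (Multiplicative.toAdd v + Multiplicative.toAdd w)) 0 1 =
          (fromBlocks 1 (SM (Multiplicative.toAdd v)) 0 1 * fromBlocks 1 (SM (Multiplicative.toAdd w)) 0 1 :
            Matrix (Fin 3 ⊕ Fin 3) (Fin 3 ⊕ Fin 3) F)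
        rw [fromBlocks_multiply, SM_add]
        simp [add_comm] }
  refine of_hom (card_four hF) (exp_two hF) φ ?_
  intro a ha
  refine ⟨⟨J (Fin 3) F, SymplecticGroup.J_mem _ _⟩, fun h => ha (SM_inj ?_)⟩
  have h3 : fromBlocks 1 (SM a) 0 1 * J (Fin 3) F = J (Fin 3) F * fromBlocks 1 (SM a) 0 1 := congrArg Subtype.val h
  rw [J, fromBlocks_multiply, fromBlocks_multiply, fromBlocks_inj] at h3
  simpa using h3.1

end Sp6

end Cfsg.Agent.H340.RV.Rank4
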